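import Cfsg.Agent.Omega.OM.Lev.Low.LowMain
import Cfsg.Agent.Omega.OM.Lev.LowBlk
import Cfsg.Agent.Omega.OM.Lev.UniPlus
import Cfsg.Agent.Omega.OM.SwapL.Frame

/-!
# (LL) for subgroups which centralise an element of `Z_J` with full support, `q = 2`

* `exists_ybc` : 584's `exists_ybj`, and the elements of `X` centralised by `Y` lie in all `N l`;
* `low_full` : `Y` moves `Ω₁Z(T)` and centralises `η ∈ Z_J` with full support: `lev S n ≤ O₂(Y)`;
* `no_blk` : no FF-block over `B` centralises `η`.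
-/

set_option autoImplicit false
set_option linter.unusedSectionVars false

namespace Cfsg.Agent.Omega.OM.YTwo

open Subgroup Cfsg Cfsg.Agent.ZN.ChoiceBase Cfsg.Agent.ZN.ChoiceSit
open Cfsg.Agent.ZN (jj zj bau zc zl o2)
open Cfsg.Agent.MinSimple.MinParabolic (IsMinPar)
open Cfsg.Agent.Omega.NO3S.Level (lev lev_isLev le_centralizer_zc)
open Cfsg.Agent.Omega.OM.Lev.Low
open Cfsg.Agent.Omega.OM.Lev.Uni (FrL)
open Cfsg.Agent.Omega.OM.LevB (FBlk)
open Cfsg.Agent.Omega.OM.SwapL (Ln ZL)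

universe u

variable {G : Type u} [Group G] [Finite G]

/-- **`YB` at the stage of `Y`**; the elements of `X` centralised by `Y` lie in all `N l`. -/
theorem exists_ybc (S : Sylow 2 G) {T Y : Subgroup G} {j : ℕ} (hT : Syl T Y) (hB : LevB.BL (S : Subgroup G) j ≤ T)
    (hP : IsMinPar T Y) (hc : Y ⊓ centralizer (o2 Y : Set G) ≤ o2 Y)
    (hlow : ∀ i < j, lev (S : Subgroup G) i ≤ o2 Y) (hn : ¬ lev (S : Subgroup G) j ≤ o2 Y)
    (hZ : ¬ Y ≤ centralizer (zc T : Set G)) :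
    ∃ (Λ : Type) (_ : Finite Λ) (N c : Λ → Subgroup G), YB T (zc (lev (S : Subgroup G) j)) N c ∧
      (∃ l, ¬ zc T ≤ N l) ∧ ∀ x ∈ zc (lev (S : Subgroup G) j), (∀ y ∈ Y, y * x = x * y) → ∀ l, x ∈ N l := by
  obtain ⟨X, AA', hge, hbz, hex, hcon⟩ := exists_ge S hT hB hP hc hlow hn hZ
  rcases hcon with ⟨F, _, _, _, k, hk, ⟨N⟩⟩ | ⟨k, m, hk, hm, ⟨N⟩⟩
  · obtain ⟨L, j, hL, hsup⟩ := exists_ld hge hbz N hk hex
    obtain ⟨c, hc⟩ := hL.exists_co
    have hy := hL.yb_aux hc fun i s hs t ht hsm htm => cyc_line hge.hm N hk hs hsm ht htm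
    refine ⟨Fin k, inferInstance, _, c, hy, ⟨j, fun hcon => hZ (hsup.trans (sup_le ?_ ?_))⟩, fun x hx hxY l => ?_⟩
    · exact le_centralizer_zc T
    · intro l hl
      rw [mem_centralizer_iff]
      intro z hz
      have h1 := (mem_Ni.1 (hcon hz)).2 1 (one_mem _) (MvI.one j) l hl
      simp only [inv_one, one_mul, mul_one] at h1
      exact h1.symm
    · refine mem_Ni.2 ⟨hx, fun t ht _ l hl => ?_⟩
      have h1 : t⁻¹ * x * t = x := by
        rw [mul_assoc, ← hxY t (hT.1 ht), inv_mul_cancel_left]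
      rw [h1]
      exact hxY l (hL.LH hl)
  · obtain ⟨ι, hf, ⟨i⟩, W, K, d, hy, -, -, -, -, -, -, hKH, hsup⟩ := YSym.exists_yb hge hbz N hk (by omega) hex
    refine ⟨ι, hf, _, _, hy, ⟨i, fun hle => hZ ((hsup i).trans (sup_le ?_ ?_))⟩, fun x hx hxY l => ?_⟩
    · exact le_centralizer_zc T
    · exact le_centralizer_iff.1 hle
    · exact mem_centralizer_iff.2 fun y hy => hxY y (hKH l hy)

section line

variable {ι : Type} [Finite ι] {S : Sylow 2 G} {P : Subgroup G} {n : ℕ} {L W Z C A : ι → Subgroup G}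

/-- Every set `s` of indices with `Z i ≤ H` (`i ∈ s`) is the support of an element of `Z_J ∩ H`. -/
theorem exists_supp_in (h : Ln S P n L W Z C A 2) (s : Set ι) {H : Subgroup G} (hH : ∀ i ∈ s, Z i ≤ H) :
    ∃ x ∈ ZL (S : Subgroup G) n, x ∈ H ∧ ∀ i, (x ∈ C i ↔ i ∉ s) := by
  classical
  have : Fintype ι := Fintype.ofFinite ι
  suffices H' : ∀ t : Finset ι, (∀ i ∈ t, i ∈ s) →
      ∃ x ∈ ZL (S : Subgroup G) n, x ∈ H ∧ ∀ i, (x ∈ C i ↔ i ∉ t) by
    obtain ⟨x, hx, hxH, hs⟩ := H' s.toFinset fun i hi => Set.mem_toFinset.1 hi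
    exact ⟨x, hx, hxH, fun i => by rw [hs i, Set.mem_toFinset]⟩
  intro t
  induction t using Finset.induction_on with
  | empty => exact fun _ => ⟨1, one_mem _, one_mem _, fun i => by simp [one_mem]⟩
  | insert j t hj ih =>
    intro ht
    obtain ⟨x, hx, hxH, hs⟩ := ih fun i hi => ht i (Finset.mem_insert_of_mem hi)
    obtain ⟨z, hz, hz1⟩ := SwapL.Z_ne h j
    refine ⟨x * z, mul_mem hx (h.fr.Z_le j hz), mul_mem hxH (hH j (ht j (Finset.mem_insert_self j t)) hz),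
      fun i => ?_⟩
    by_cases hij : i = j
    · subst hij
      have h1 : x ∈ C i := (hs i).2 hj
      constructor
      · intro h2
        exact absurd ((Subgroup.mul_mem_cancel_left _ h1).1 h2) (SwapL.not_mem_C h hz hz1)
      · intro h2
        exact absurd (Finset.mem_insert_self i t) h2
    · have h1 : z ∈ C i := SwapL.Z_C h hij hz
      rw [Subgroup.mul_mem_cancel_right _ h1, hs i, Finset.mem_insert, not_or]
      exact ⟨fun h2 => ⟨hij, h2⟩, fun h2 => h2.2⟩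

/-- `Z i` lies in the part of `V` moved by the blocks or in the part centralised by them. -/
theorem Z_split (h : Ln S P n L W Z C A 2) {T X : Subgroup G} {Λ : Type} [Finite Λ] {N c : Λ → Subgroup G}
    (hB : SwapL.BL (S : Subgroup G) n ≤ T) (hy : YB T X N c)
    (hV : YB.QV T X (o2 P) (zl (S : Subgroup G) P)) (i : ι) :
    Z i ≤ YB.Cp c Set.univ ∨ Z i ≤ YB.Np X N Set.univ := by
  have h2 := h.fr.Ane i
  push Not at h2
  obtain ⟨b, hb, w, hw, hbw⟩ := h2
  have r := rt h.fr hB hb fun h3 => hbw (h3 w hw)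
  obtain ⟨z, hz, hz1⟩ := SwapL.Z_ne h i
  have hone : ∀ x ∈ Z i, x ≠ 1 → x = z := fun x hx hx1 => SwapL.Z_eq h hx hz hx1 hz1
  obtain ⟨v, hv, e⟩ := r.all z hz
  obtain ⟨a, haV, d, hdV, ha, hd, rfl⟩ := hy.restr hV (p := Set.univ) (fun _ _ _ _ _ => by simp) hv
  have h3 := r.com a haV
  have h4 := r.com d hdV
  have h5 : a * (b * a * b⁻¹) ∈ YB.Cp c Set.univ :=
    mul_mem ha (hy.Cp_conj r.bT (fun _ _ _ _ => Set.mem_univ _) ha)
  have h6 : d * (b * d * b⁻¹) ∈ YB.Np X N Set.univ :=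
    mul_mem hd (hy.Np_conj r.bT (fun _ _ _ _ => Set.mem_univ _) hd)
  have h7 : z = a * (b * a * b⁻¹) * (d * (b * d * b⁻¹)) := by
    have h8 := hy.cm (hV.VX (YB.QV.memV hy hV r.bT haV)) (hV.VX hdV)
    rw [← e]
    calc a * d * (b * (a * d) * b⁻¹) = a * (d * (b * a * b⁻¹)) * (b * d * b⁻¹) := by group
      _ = a * ((b * a * b⁻¹) * d) * (b * d * b⁻¹) := by rw [h8]
      _ = _ := by group
  by_cases h8 : a * (b * a * b⁻¹) = 1
  · right
    rw [h8, one_mul] at h7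
    intro x hx
    by_cases hx1 : x = 1
    · rw [hx1]; exact one_mem _
    · rw [hone x hx hx1, h7]; exact h6
  · left
    intro x hx
    by_cases hx1 : x = 1
    · rw [hx1]; exact one_mem _
    · rw [hone x hx hx1, ← hone _ h3 h8]; exact h5

/-- **(LL) for subgroups which centralise an element with full support.** -/
theorem low_full (h : Ln S P n L W Z C A 2) {T Y : Subgroup G} (hT : Syl T Y)
    (hB : SwapL.BL (S : Subgroup G) n ≤ T) (hP : IsMinPar T Y) (hc : Y ⊓ centralizer (o2 Y : Set G) ≤ o2 Y)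
    (hZ : ¬ Y ≤ centralizer (zc T : Set G)) {η : G} (hη : η ∈ ZL (S : Subgroup G) n) (hs : ∀ i, η ∉ C i)
    (hηY : ∀ y ∈ Y, y * η = η * y) : lev (S : Subgroup G) n ≤ o2 Y := by
  by_contra hn
  obtain ⟨j, hj, hlow, hnj⟩ := exists_stg (S : Subgroup G) hn
  have hBj : LevB.BL (S : Subgroup G) j ≤ T := (BL_mono (S : Subgroup G) (by omega : j ≤ n + 1)).trans hB
  obtain ⟨Λ, _, N, c, hy, ⟨l, hl⟩, hcY⟩ := exists_ybc S hT hBj hP hc hlow hnj hZ
  have hV := qv h hT.2.1 hB hj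
  set X : Subgroup G := zc (lev (S : Subgroup G) j) with hX
  have hsp := Z_split h hB hy hV
  obtain ⟨x, hx, hxC, hxs⟩ := exists_supp_in h {i | Z i ≤ YB.Cp c Set.univ} (H := YB.Cp c Set.univ) fun i hi => hi
  obtain ⟨y, hyJ, hyN, hys⟩ := exists_supp_in h {i | ¬ Z i ≤ YB.Cp c Set.univ} (H := YB.Np X N Set.univ)
    fun i hi => (hsp i).resolve_left hi
  have hηX : η ∈ X := hV.VX (h.fr.ZJV hη)
  have hηN : η ∈ YB.Np X N Set.univ := YB.mem_Np.2 ⟨hηX, fun m _ => hcY η hηX hηY m⟩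
  have e : η = x * y := by
    refine SwapL.eq_of_supp h hη (mul_mem hx hyJ) fun i => ?_
    refine ⟨fun h1 => absurd h1 (hs i), fun h1 => ?_⟩
    exfalso
    by_cases hi : Z i ≤ YB.Cp c Set.univ
    · have h2 : y ∈ C i := (hys i).2 fun h3 => h3 hi
      exact (hxs i).1 ((Subgroup.mul_mem_cancel_right _ h2).1 h1) hi
    · have h2 : x ∈ C i := (hxs i).2 hi
      exact (hys i).1 ((Subgroup.mul_mem_cancel_left _ h2).1 h1) hi
  have hxN : x ∈ YB.Np X N Set.univ := by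
    have h1 := mul_mem hηN (inv_mem hyN)
    rwa [e, mul_inv_cancel_right] at h1
  have hx1 : x = 1 := hy.eq_one hxC fun m hm => (YB.mem_Np.1 hxN).2 m hm
  have hall : ∀ i, Z i ≤ N l := by
    intro i
    refine le_trans ((hsp i).resolve_left fun hi => ?_) fun z hz => (YB.mem_Np.1 hz).2 l (Set.mem_univ l)
    exact (hxs i).1 (hx1 ▸ one_mem _) hi
  exact hl ((zc_T_le S hT.2.1 hB).trans (zj_le h.fr hall))

/-- No FF-block over `B` centralises an element with full support. -/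
theorem no_blk (h : Ln S P n L W Z C A 2) {L' V' : Subgroup G} (h' : FBlk (SwapL.BL (S : Subgroup G) n) L' V')
    {η : G} (hη : η ∈ ZL (S : Subgroup G) n) (hs : ∀ i, η ∉ C i) (hηL : ∀ l ∈ L', l * η = η * l) : False := by
  obtain ⟨⟨Z', q', hF⟩, hb⟩ := h'
  have eqB : SwapL.BL (S : Subgroup G) n =
    (S : Subgroup G) ⊓ centralizer (zc (lev (S : Subgroup G) (n + 1)) : Set G) := rfl
  have hX := Lev.LowBlk.V_le S eqB h.fr hF hb.irr
  have hp : ∀ g ∈ normalizer (SwapL.BL (S : Subgroup G) n : Set G), ∀ j, ∃ k, cj g (Z j) = Z k := by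
    intro g hg j
    obtain ⟨k, hk, -⟩ := SwapL.perm h hg j
    exact ⟨k, hk⟩
  obtain ⟨-, i, -, -, -, h1, -⟩ := Lev.UniPlus.uniPlusX h.fr (SwapL.lb S n).Bp (SwapL.wc S n) hp hF hX
  exact hs i ((h1 η hη).2 hηL)

end line

end Cfsg.Agent.Omega.OM.YTwo
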