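import Cfsg.Agent.Omega.OM.YTwo.LowFull
import Cfsg.Agent.Omega.OM.SwapL.Plug

/-!
# THEOREM Y2 (helper743 #22591) at the levels `n ≥ 0`: the choice of `C₀` and the pair `(T, F)`

`B = C_S(Z_J)`, `Z_J = Ω₁Z(lev S (n+1))`, `q = 2`. The file `YTwo/Neg.lean` at level `n`. (LL) is needed for subgroups
which centralise an element with full support only: `low_full`.
-/

set_option autoImplicit false
set_option linter.unusedSectionVars false

namespace Cfsg.Agent.Omega.OM.YTwo.Lv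

open Subgroup Cfsg Cfsg.Agent.ZN.ChoiceBase Cfsg.Agent.ZN.ChoiceSit
open Cfsg.Agent.ZN (jj zj bau zc zl o2)
open Cfsg.Agent.MinSimple.MinParabolic (IsMinPar)
open Cfsg.Agent.MinSimple.VModule (oddGen oddGen_le)
open Cfsg.Agent.Omega.NO3S.Level (lev lev_isLev le_centralizer_zc)
open Cfsg.Agent.Omega.OM.SwapL
open Cfsg.Agent.Omega.OM.Swap (char2_cent)
open Cfsg.Agent.Omega.OM.LevB (FBlk)

universe u

variable {G : Type u} [Group G] [Finite G]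

theorem norm_BL (S : Sylow 2 G) (n : ℕ) :
    normalizer (BL (S : Subgroup G) n : Set G) ≤ normalizer (ZL (S : Subgroup G) n : Set G) := (lb S n).norm_B_le

theorem S_le (S : Sylow 2 G) (n : ℕ) : (S : Subgroup G) ≤ normalizer (ZL (S : Subgroup G) n : Set G) :=
  ((lb S n).two_le S.isPGroup' (lb S n).BS).trans (norm_BL S n)

theorem mem_of_cj (S : Sylow 2 G) {n : ℕ} {g : G}
    (h : cj g (BL (S : Subgroup G) n) ≤ normalizer (ZL (S : Subgroup G) n : Set G)) :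
    g ∈ normalizer (ZL (S : Subgroup G) n : Set G) := mem_of_cj_B_le S (S_le S n) (norm_BL S n) h

theorem zc_le_ZL (S : Sylow 2 G) {n : ℕ} {T : Subgroup G} (hT : IsPGroup 2 T) (hB : BL (S : Subgroup G) n ≤ T) :
    zc T ≤ ZL (S : Subgroup G) n := Lev.Low.zc_T_le S hT hB

/-- A minimal parabolic over `T` not contained in `N_G(Z_J)`. -/
theorem exists_par (S : Sylow 2 G) {n : ℕ} {T H : Subgroup G} (hT : Syl T H) (hB : BL (S : Subgroup G) n ≤ T)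
    (hM : ¬ H ≤ normalizer (ZL (S : Subgroup G) n : Set G)) :
    ∃ Y : Subgroup G, IsMinPar T Y ∧ Y ≤ H ∧ ¬ Y ≤ normalizer (ZL (S : Subgroup G) n : Set G) ∧
      ¬ lev (S : Subgroup G) (n + 1) ≤ o2 Y := by
  obtain ⟨Y, hY, hYH, hYM⟩ : ∃ Y : Subgroup G, IsMinPar T Y ∧ Y ≤ H ∧
      ¬ Y ≤ normalizer (ZL (S : Subgroup G) n : Set G) := by
    by_contra hcon
    push Not at hcon
    apply hM
    refine MinSimple.MinParabolic.le_of_forall hT.1 ?_ hcon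
    refine inf_le_right.trans (le_trans ?_ (norm_BL S n))
    intro g hg
    rw [mem_normalizer_iff_cj]
    exact wc S n T hT.2.1 hB g ((cj_mono g hB).trans (cj_eq_of_mem_normalizer hg).le)
  exact ⟨Y, hY, hYH, hYM, fun h1 => hYM ((le_normalizer_o2 Y).trans ((lb S n).nrm _ (isPGroup_o2 Y) h1))⟩

section line

variable {ι : Type} [Finite ι] {S : Sylow 2 G} {P : Subgroup G} {n : ℕ} {L W Z C A : ι → Subgroup G}

/-- The second half of `SwapL.exists_pair`: the pair `(T, F)` inside a minimal parabolic `Y` with `[Ω₁(Z(T₀)), Y] = 1`,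
`lev S (n+1) ≰ O₂(Y)`, `Y ≰ M`. -/
theorem exists_pair_of (h : Ln S P n L W Z C A 2) {M H T₀ Y : Subgroup G}
    (hN : normalizer (BL (S : Subgroup G) n : Set G) ≤ M) (hT₀ : Syl T₀ H) (hBT₀ : BL (S : Subgroup G) n ≤ T₀)
    (hc : H ⊓ centralizer (o2 H : Set G) ≤ o2 H)
    (hYm : IsMinPar T₀ Y) (hYH : Y ≤ H) (hYK : ¬ lev (S : Subgroup G) (n + 1) ≤ o2 Y)
    (hYc : Y ≤ centralizer (zc T₀ : Set G)) (hYM : ¬ Y ≤ M) :
    ∃ T F : Subgroup G, Pair S P n M T F ∧ F ≤ Y := by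
  have : Fact (Nat.Prime 2) := ⟨Nat.prime_two⟩
  have hTM : T₀ ≤ M := ((lb S n).two_le hT₀.2.1 hBT₀).trans hN
  have hTY : Syl T₀ Y := ⟨hYm.le, hT₀.2.1, fun Q hQ h2 hTQ => hT₀.2.2 Q (hQ.trans hYH) h2 hTQ⟩
  have hcY : Y ⊓ centralizer (o2 Y : Set G) ≤ o2 Y := by
    have h4 : o2 H ≤ o2 Y :=
      le_o2 (isPGroup_o2 H) ((o2_le_syl hT₀).trans hYm.le) (hYH.trans (le_normalizer_o2 H))
    rintro x ⟨hx, hxc⟩
    exact h4 (hc ⟨hYH hx, centralizer_le (by exact_mod_cast h4) hxc⟩)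
  have hKT : lev (S : Subgroup G) (n + 1) ≤ T₀ := (lb S n).KB.trans hBT₀
  have hfix : LevD.FixPt (lev (S : Subgroup G) (n + 1)) T₀ Y := LevD.fixPt S hTY hKT hYm
  have hVY : zl (S : Subgroup G) P ≤ o2 Y := V_le_o2 h hT₀.2.1 hBT₀ hYm.le hYc
  -- `Y₁ = O²(Y) O₂(Y) B`
  set Y₁ : Subgroup G := oddGen Y ⊔ (o2 Y ⊔ BL (S : Subgroup G) n) with hY₁
  have hY₁Y : Y₁ ≤ Y := sup_le (oddGen_le Y) (sup_le (o2_le Y) (hBT₀.trans hYm.le))
  have hOB : IsPGroup 2 (o2 Y ⊔ BL (S : Subgroup G) n : Subgroup G) :=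
    hT₀.2.1.to_le (sup_le (o2_le_syl hTY) hBT₀)
  obtain ⟨T, hT, hOT⟩ := exists_syl hOB (le_sup_right : o2 Y ⊔ BL (S : Subgroup G) n ≤ Y₁)
  have hY₁M : ¬ Y₁ ≤ M := by
    intro hle
    apply hYM
    rw [← Dich.oddGen_sup_syl hTY]
    exact sup_le (le_sup_left.trans hle) hTM
  obtain ⟨F, hF⟩ := (Set.toFinite {K : Subgroup G | T ≤ K ∧ K ≤ Y₁ ∧ ¬ K ≤ M}).exists_minimal
    ⟨Y₁, hT.1, le_rfl, hY₁M⟩
  obtain ⟨hTF, hFY₁, hFM⟩ := hF.prop
  have hFY : F ≤ Y := hFY₁.trans hY₁Y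
  have hsyl : Syl T F := ⟨hTF, hT.2.1, fun Q hQ h2 hle => hT.2.2 Q (hQ.trans hFY₁) h2 hle⟩
  have hBT : BL (S : Subgroup G) n ≤ T := le_sup_right.trans hOT
  have hOF : o2 Y ≤ o2 F :=
    le_o2 (isPGroup_o2 Y) ((le_sup_left.trans hOT).trans hTF) (hFY.trans (le_normalizer_o2 Y))
  refine ⟨T, F, ⟨hsyl, hBT, hFM, fun K hTK hKF => ?_, hVY.trans hOF, ?_⟩, hFY⟩
  · by_contra hKM
    exact hKF.not_ge (hF.le_of_le ⟨hTK, hKF.le.trans hFY₁, hKM⟩ hKF.le)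
  · rintro z ⟨hz, hzc⟩
    have hzB : z ∈ BL (S : Subgroup G) n := (lb S n).ZB hz
    have hzO : ∀ y ∈ o2 Y, y * z = z * y := fun y hy => mem_centralizer_iff.1 hzc y (hOF hy)
    have hz1 : z ∈ zc (o2 Y) := by
      refine mem_zc.2 ⟨hcY ⟨hYm.le (hBT₀ hzB), mem_centralizer_iff.2 hzO⟩, (lb S n).sq z hz, hzO⟩
    have hz2 : z ∈ centralizer (oddGen Y : Set G) := hfix hYK hYc hz1
    have hle : Y₁ ≤ centralizer ({z} : Set G) := by
      refine sup_le (fun y hy => ?_) (sup_le (fun y hy => ?_) fun y hy => ?_) <;>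
        rw [mem_centralizer_singleton_iff]
      · exact mem_centralizer_iff.1 hz2 y hy
      · exact hzO y hy
      · exact (mem_centralizer_iff.1 ((lb S n).Bc hy) z hz).symm
    rw [mem_centralizer_iff]
    intro y hy
    exact mem_centralizer_singleton_iff.1 (hle (hFY₁ hy))

/-! ### The choice of `C₀` -/

/-- `X = Ω₁(Z(T))` for a 2-group `T ≥ B`, `C_G(X) ≰ N_G(Z_J)`. -/
def Bad (S : Sylow 2 G) (n : ℕ) (X : Subgroup G) : Prop :=
  ¬ centralizer (X : Set G) ≤ normalizer (ZL (S : Subgroup G) n : Set G) ∧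
    ∃ T : Subgroup G, IsPGroup 2 T ∧ BL (S : Subgroup G) n ≤ T ∧ X = zc T

/-- `C₀ = Ω₁(Z(T₀))` maximal bad, `T₀` a Sylow 2-subgroup of `C_G(C₀)`. -/
structure MaxC (S : Sylow 2 G) (n : ℕ) (C₀ T₀ : Subgroup G) : Prop where
  not : ¬ centralizer (C₀ : Set G) ≤ normalizer (ZL (S : Subgroup G) n : Set G)
  syl : Syl T₀ (centralizer (C₀ : Set G))
  BT : BL (S : Subgroup G) n ≤ T₀
  eq : C₀ = zc T₀
  max : ∀ X, Bad S n X → C₀ ≤ X → X ≤ C₀

theorem MaxC.le {C₀ T₀ : Subgroup G} (m : MaxC S n C₀ T₀) : C₀ ≤ ZL (S : Subgroup G) n :=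
  m.eq.le.trans (zc_le_ZL S m.syl.2.1 m.BT)

theorem exists_maxC (S : Sylow 2 G) {n : ℕ} {X : Subgroup G} (hX : Bad S n X) :
    ∃ C₀ T₀ : Subgroup G, MaxC S n C₀ T₀ := by
  obtain ⟨C₀, hC⟩ := (Set.toFinite {X : Subgroup G | Bad S n X}).exists_maximal ⟨X, hX⟩
  obtain ⟨hn, T, hT, hBT, e⟩ := hC.prop
  have hTc : T ≤ centralizer (C₀ : Set G) := by
    rw [e]
    exact le_centralizer_zc T
  obtain ⟨T₀, hT₀, hTT₀⟩ := exists_syl hT hTc
  refine ⟨C₀, T₀, hn, hT₀, hBT.trans hTT₀, le_antisymm ?_ ?_, fun X hX hle => hC.le_of_ge hX hle⟩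
  · intro z hz
    have h1 : z ∈ zc T := e ▸ hz
    obtain ⟨h2, h3, -⟩ := mem_zc.1 h1
    exact mem_zc.2 ⟨hTT₀ h2, h3, fun t ht => (mem_centralizer_iff.1 (hT₀.1 ht) z hz).symm⟩
  · intro z hz
    rw [e]
    have h1 : z ∈ ZL (S : Subgroup G) n := zc_le_ZL S hT₀.2.1 (hBT.trans hTT₀) hz
    obtain ⟨-, h3, h4⟩ := mem_zc.1 hz
    exact mem_zc.2 ⟨hBT ((lb S n).ZB h1), h3, fun t ht => h4 t (hTT₀ ht)⟩

/-- the element with full support -/
theorem MaxC.full (h : Ln S P n L W Z C A 2) {C₀ T₀ : Subgroup G} (m : MaxC S n C₀ T₀) :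
    ∃ η ∈ C₀, ∀ i, η ∉ C i := by
  obtain ⟨η, hη, hs⟩ := exists_supp h Set.univ
  have hs' : ∀ i, η ∉ C i := fun i hi => (hs i).1 hi (Set.mem_univ i)
  refine ⟨η, ?_, hs'⟩
  rw [m.eq]
  refine mem_zc.2 ⟨m.BT ((lb S n).ZB hη), (lb S n).sq η hη, fun t ht => ?_⟩
  exact comm_of_supp h ((lb S n).two_le m.syl.2.1 m.BT ht) hη fun i j _ =>
    ⟨fun hi => absurd hi (hs' i), fun hj => absurd hj (hs' j)⟩

/-- (MAX) -/
theorem MaxC.cent (h : Ln S P n L W Z C A 2) {C₀ T₀ : Subgroup G} (m : MaxC S n C₀ T₀)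
    [Nonempty ι] {X : Subgroup G} (hX : X ≤ ZL (S : Subgroup G) n) (hCX : C₀ ≤ X) (hne : ¬ X ≤ C₀) :
    centralizer (X : Set G) ≤ normalizer (ZL (S : Subgroup G) n : Set G) := by
  by_contra hcon
  obtain ⟨η, hη, hηC⟩ := m.full h
  have hη1 : η ≠ 1 := by
    rintro rfl
    exact hηC (Classical.arbitrary ι) (one_mem _)
  have hX1 : X ≠ ⊥ := by
    rintro rfl
    exact hη1 (mem_bot.1 (hCX hη))
  have hS2 : IsPGroup 2 (ZL (S : Subgroup G) n) := (lb S n).Bp.to_le (lb S n).ZB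
  have hBX : BL (S : Subgroup G) n ≤ centralizer (X : Set G) :=
    (lb S n).Bc.trans (centralizer_le (by exact_mod_cast hX))
  have hc := char2_cent h.hyp.ctx.char2 (hS2.to_le hX) hX1
  obtain ⟨T₁, hT₁, hBT₁⟩ := exists_syl (lb S n).Bp hBX
  obtain ⟨Y, hY, hYH, hYM, hYJ⟩ := exists_par S hT₁ hBT₁ hcon
  have hYη : ∀ y ∈ Y, y * η = η * y := fun y hy => (mem_centralizer_iff.1 (hYH hy) η (hCX hη)).symm
  by_cases hYc : Y ≤ centralizer (zc T₁ : Set G)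
  · -- a larger bad group
    have hXz : X ≤ zc T₁ := by
      intro z hz
      exact mem_zc.2 ⟨hBT₁ ((lb S n).ZB (hX hz)), (lb S n).sq z (hX hz), fun t ht =>
        (mem_centralizer_iff.1 (hT₁.1 ht) z hz).symm⟩
    have h1 : Bad S n (zc T₁) := ⟨fun hle => hYM (hYc.trans hle), T₁, hT₁.2.1, hBT₁, rfl⟩
    exact hne (hXz.trans (m.max _ h1 (hCX.trans hXz)))
  · have hTY : Syl T₁ Y := ⟨hY.le, hT₁.2.1, fun Q hQ h2 hTQ => hT₁.2.2 Q (hQ.trans hYH) h2 hTQ⟩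
    have hcY : Y ⊓ centralizer (o2 Y : Set G) ≤ o2 Y := by
      have h4 : o2 (centralizer (X : Set G)) ≤ o2 Y :=
        le_o2 (isPGroup_o2 _) ((o2_le_syl hT₁).trans hY.le) (hYH.trans (le_normalizer_o2 _))
      rintro x ⟨hx, hxc⟩
      exact h4 (hc ⟨hYH hx, centralizer_le (by exact_mod_cast h4) hxc⟩)
    have hK := low_full h hTY hBT₁ hY hcY hYc (hX (hCX hη)) hηC hYη
    obtain ⟨L', V', hL'Y, hF, -⟩ := LevB.exists_fblk S hTY hBT₁ hY hcY hK hYJ hYc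
    exact no_blk h hF (hX (hCX hη)) hηC fun l hl => hYη l (hL'Y hl)

/-- **(b)** -/
theorem MaxC.mem (h : Ln S P n L W Z C A 2) {C₀ T₀ : Subgroup G} (m : MaxC S n C₀ T₀)
    [Nonempty ι] {f x : G} (hf : f ∈ centralizer (C₀ : Set G)) (hx : x ∈ ZL (S : Subgroup G) n)
    (hx0 : x ∉ C₀) (hfx : f⁻¹ * x * f ∈ ZL (S : Subgroup G) n) :
    f ∈ normalizer (ZL (S : Subgroup G) n : Set G) := by
  set X : Subgroup G := ZL (S : Subgroup G) n ⊓ cj f (ZL (S : Subgroup G) n) with hX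
  have hCX : C₀ ≤ X := by
    refine le_inf m.le fun c hc => ?_
    rw [mem_cj]
    have h1 := mem_centralizer_iff.1 hf c hc
    have e : f⁻¹ * c * f = c := by rw [mul_assoc, h1]; group
    rw [e]
    exact m.le hc
  have h1 := m.cent h (X := X) inf_le_left hCX fun hle => hx0 (hle (mem_inf.2 ⟨hx, mem_cj.2 hfx⟩))
  apply mem_of_cj S
  refine le_trans ?_ h1
  have h2 : cj f (BL (S : Subgroup G) n) ≤
      centralizer ((cj f (ZL (S : Subgroup G) n) : Subgroup G) : Set G) := by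
    rw [← cj_centralizer]
    exact cj_mono f (lb S n).Bc
  exact h2.trans (centralizer_le (by exact_mod_cast (inf_le_right : X ≤ _)))

end line

end Cfsg.Agent.Omega.OM.YTwo.Lv
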