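import Cfsg.Agent.Omega.OM.YTwo.Lv
import Cfsg.Agent.Omega.NO3S.EThree.FrameG

/-!
# THEOREM Y2 (helper743 #22591) at the levels `n ≥ 0`: the end

`exists_sit` : a maximal bad group `C₀` gives `SitF`; `cent_zc_le` : **`C_G(Ω₁(Z(T))) ≤ N_G(Z_J)`** for every
2-group `T ≥ B`, `Z_J = Ω₁Z(lev S (n+1))`, `B = C_S(Z_J)`, `q = 2`.
-/

set_option autoImplicit false
set_option linter.unusedSectionVars false

namespace Cfsg.Agent.Omega.OM.YTwo.Lv

open Subgroup Cfsg Cfsg.Agent.ZN.ChoiceBase Cfsg.Agent.ZN.ChoiceSit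
open Cfsg.Agent.ZN (jj zj bau zc zl o2)
open Cfsg.Agent.MinSimple.MinParabolic (IsMinPar)
open Cfsg.Agent.Omega.NO3S.Level (lev lev_isLev)
open Cfsg.Agent.Omega.OM.SwapL
open Cfsg.Agent.Omega.OM.Swap (char2_cent)
open Cfsg.Agent.Omega.OM.Swap.Fam (Fm SitF)
open Cfsg.Agent.Omega.NO3S.EThree.Frame (Bg)

universe u

variable {G : Type u} [Group G] [Finite G]

section bg

variable {ι : Type} [Finite ι] {S : Sylow 2 G} {P : Subgroup G} {n : ℕ} {L W Z C A : ι → Subgroup G}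

/-- natural modules: `L i` normalises all `W j`. -/
theorem cj_L_W (h : Ln S P n L W Z C A 2) (hb : Bg S P (BL (S : Subgroup G) n) (ZL (S : Subgroup G) n) L W Z C 2)
    {i j : ι} {l : G} (hl : l ∈ L i) : cj l (W j) = W j := by
  by_cases hij : i = j
  · subst hij
    refine Subgroup.eq_of_le_of_card_ge ?_ (by rw [card_cj])
    rintro _ ⟨w, hw, rfl⟩
    exact (h.fr.blk i).nV l hl w hw
  · obtain ⟨σ, hσ⟩ := hb.perm l (hb.LP i hl)
    have h1 := (hσ j).1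
    obtain ⟨z, hz, hz1⟩ := SwapL.Z_ne h j
    have h2 : l * z = z * l := h.fr.LC i l hl z (h.fr.Z_le j hz) (SwapL.Z_C h hij hz)
    have h3 : z ∈ W (σ j) := by
      rw [← h1, mem_cj]
      have e : l⁻¹ * z * l = z := by rw [mul_assoc, ← h2, inv_mul_cancel_left]
      rw [e]
      exact SwapL.Z_W h j hz
    have h4 : σ j = j := by
      by_contra hne
      have h5 : z ∈ W (σ j) ⊓ W j := mem_inf.2 ⟨h3, SwapL.Z_W h j hz⟩
      rw [hb.W_disj hne, mem_bot] at h5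
      exact hz1 h5
    rwa [h4] at h1

/-- **(0.2)** a nontrivial element of `∏_{j ∈ r} W j` conjugate into `Z a` lies in some `W j`. -/
theorem wt (h : Ln S P n L W Z C A 2) (hb : Bg S P (BL (S : Subgroup G) n) (ZL (S : Subgroup G) n) L W Z C 2)
    {r : Set ι} {y g : G} {a : ι} (hy : y ∈ ⨆ j ∈ r, W j)
    (hy1 : y ≠ 1) (hg : g⁻¹ * y * g ∈ Z a) : ∃ j ∈ r, y ∈ W j := by
  obtain ⟨k, hk, hx⟩ := SwapL.conj_ZJ h.fr r hy
  have hxJ : k * y * k⁻¹ ∈ ZL (S : Subgroup G) n :=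
    (iSup₂_le fun i _ => h.fr.Z_le i : (⨆ i ∈ r, Z i) ≤ ZL (S : Subgroup G) n) hx
  have h1 : (k * g)⁻¹ * (k * y * k⁻¹) * (k * g) ∈ Z a := by
    have e : (k * g)⁻¹ * (k * y * k⁻¹) * (k * g) = g⁻¹ * y * g := by group
    rwa [e]
  obtain ⟨j, hj⟩ := hb.fus hxJ h1
  have hkn : k ∈ normalizer (W j : Set G) :=
    (iSup₂_le fun i _ l hl => mem_normalizer_iff_cj.2 (cj_L_W h hb hl) :
      (⨆ i ∈ r, L i) ≤ normalizer (W j : Set G)) hk
  refine ⟨j, ?_, ?_⟩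
  · by_contra hjr
    have h2 : (⨆ i ∈ r, Z i) ≤ C j := iSup₂_le fun i hi =>
      SwapL.Z_C h (fun e => hjr (e ▸ hi))
    have h3 : k * y * k⁻¹ ∈ W j ⊓ C j := mem_inf.2 ⟨SwapL.Z_W h j hj, h2 hx⟩
    rw [h.fr.dir j, mem_bot] at h3
    exact hy1 (conj_eq_one_iff.1 h3)
  · exact (mem_normalizer_iff.1 hkn y).2 (SwapL.Z_W h j hj)

/-- An element of `O₂(F)` inducing the transvection on `W i`. -/
theorem exists_tv (h : Ln S P n L W Z C A 2) {F T : Subgroup G} (hT : Syl T F)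
    (hB : BL (S : Subgroup G) n ≤ T) {i i' : ι} (hne : i ≠ i') {s : G} (hs : s ∈ o2 F) (e : cj s (W i') = W i)
    {z : G} (hz : z ∈ Z i) (hz1 : z ≠ 1) :
    ∃ u ∈ o2 F, ∀ x ∈ W i, x ∉ Z i → u * x * u⁻¹ = x * z := by
  have h2 := h.fr.Ane i
  push Not at h2
  obtain ⟨a, ha, v, hv, hav⟩ := h2
  have haB := h.fr.AB i ha
  have haF : a ∈ F := hT.1 (hB haB)
  have hO : ∀ x ∈ o2 F, a * x * a⁻¹ ∈ o2 F := fun x hx =>
    (mem_normalizer_iff.1 (le_normalizer_o2 F haF) x).1 hx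
  refine ⟨s * (a * s⁻¹ * a⁻¹), mul_mem hs (hO _ (inv_mem hs)), fun x hx hxZ => ?_⟩
  -- `y = a⁻¹ x a = x z`
  have h3 : a⁻¹ * x * a⁻¹⁻¹ = x * z := by
    rcases SwapL.act h.fr hz hz1 (inv_mem haB) hx with h4 | h4
    · exfalso
      apply hav
      refine (h.fr.blk i).free a haB x hx hxZ ?_ v hv
      have h5 : a * (a⁻¹ * x * a⁻¹⁻¹) = a * x := by rw [h4]
      have e5 : a * (a⁻¹ * x * a⁻¹⁻¹) = x * a := by group
      exact h5.symm.trans e5
    · exact h4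
  have hyW : x * z ∈ W i := mul_mem hx ((h.fr.blk i).ZV hz)
  have h6 : s⁻¹ * (x * z) * s ∈ W i' := by
    rw [← mem_cj, e]
    exact hyW
  have h7 := h.fr.AC i a ha _ (h.fr.WjC i i' hne h6)
  have e8 : s * (a * s⁻¹ * a⁻¹) * x * (s * (a * s⁻¹ * a⁻¹))⁻¹ =
      s * (a * (s⁻¹ * (a⁻¹ * x * a⁻¹⁻¹) * s)) * a⁻¹ * s⁻¹ := by group
  rw [e8, h3, h7]
  group

/-- **A maximal bad group gives the situation of THEOREM SW.** -/
theorem exists_sit (h : Ln S P n L W Z C A 2) (hb : Bg S P (BL (S : Subgroup G) n) (ZL (S : Subgroup G) n) L W Z C 2)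
    [Nonempty ι] {C₀ T₀ : Subgroup G} (m : MaxC S n C₀ T₀) :
    ∃ (T F F₀ : Subgroup G) (𝓐 : Set (Subgroup G)) (κ : Type) (V : κ → Subgroup G) (z : κ → G),
      SitF F T F₀ 𝓐 V z := by
  classical
  have hC1 : C₀ ≠ ⊥ := by
    rintro rfl
    obtain ⟨η, hη, hηC⟩ := m.full h
    rw [mem_bot] at hη
    exact hηC (Classical.arbitrary ι) (hη ▸ one_mem _)
  have hS2 : IsPGroup 2 (ZL (S : Subgroup G) n) := (lb S n).Bp.to_le (lb S n).ZB
  have hc := char2_cent h.hyp.ctx.char2 (hS2.to_le m.le) hC1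
  obtain ⟨Y, hY, hYH, hYM, hYJ⟩ := exists_par S m.syl m.BT m.not
  have hYc : Y ≤ centralizer (zc T₀ : Set G) := by
    have := m.eq
    rw [← this]
    exact hYH
  obtain ⟨T, F, hp, hFY⟩ := exists_pair_of h (norm_BL S n) m.syl m.BT hc hY hYH hYJ hYc hYM
  have hFC : F ≤ centralizer (C₀ : Set G) := hFY.trans hYH
  have hTN : T ≤ normalizer (BL (S : Subgroup G) n : Set G) := (lb S n).two_le hp.syl.2.1 hp.BT
  have hTM : T ≤ normalizer (ZL (S : Subgroup G) n : Set G) := hTN.trans (norm_BL S n)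
  have hO : o2 F ≤ T := o2_le_syl hp.syl
  have hON : o2 F ≤ normalizer (BL (S : Subgroup G) n : Set G) := hO.trans hTN
  have hTF : T ≤ F := hp.syl.1
  obtain ⟨𝓐, hfam, hnJ, hA⟩ := exists_fam h hp (centralizer_le_normalizer _) hTM le_rfl
  choose z hz hz1 using SwapL.Z_ne h
  -- an index moved by `O₂(F)`
  obtain ⟨i₀, o₀, ho₀, hmv⟩ : ∃ i, ∃ o ∈ o2 F, cj o (Z i) ≠ Z i := by
    by_contra hcon
    push Not at hcon
    apply hp.nM
    have h1 : ZL (S : Subgroup G) n ≤ centralizer (F : Set G) := by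
      intro x hx
      refine hp.fix ⟨hx, mem_centralizer_iff.2 fun o ho => ?_⟩
      refine comm_of_supp h (hON ho) hx fun i j e => ?_
      rw [hcon i o ho] at e
      rw [SwapL.Z_inj h e]
    exact (le_centralizer_iff.1 h1).trans (centralizer_le_normalizer _)
  -- its orbit
  set r : Set ι := {j | ∃ o ∈ o2 F, cj o (Z i₀) = Z j} with hr
  have hrO : ∀ o ∈ o2 F, ∀ i j, cj o (Z i) = Z j → (i ∈ r ↔ j ∈ r) := by
    intro o ho i j e
    constructor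
    · rintro ⟨o', ho', e'⟩
      exact ⟨o * o', mul_mem ho ho', cj_mul_eq e' e⟩
    · rintro ⟨o', ho', e'⟩
      exact ⟨o⁻¹ * o', mul_mem (inv_mem ho) ho', cj_mul_eq e' (cj_inv_eq e)⟩
  have hi₀ : i₀ ∈ r := ⟨1, one_mem _, cj_one _⟩
  obtain ⟨j₀, hj₀, -⟩ := SwapL.perm h (hON ho₀) i₀
  have hj₀r : j₀ ∈ r := ⟨o₀, ho₀, hj₀⟩
  have hne₀ : i₀ ≠ j₀ := by
    rintro rfl
    exact hmv hj₀
  have htr : ∀ i ∈ r, ∀ j ∈ r, ∃ o ∈ o2 F, cj o (W i) = W j := by
    rintro i ⟨o, ho, e⟩ j ⟨o', ho', e'⟩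
    refine ⟨o' * o⁻¹, mul_mem ho' (inv_mem ho), ?_⟩
    exact SwapL.W_cj h (hON (mul_mem ho' (inv_mem ho))) (cj_mul_eq (cj_inv_eq e) e')
  -- elements of `Z_J` with support `r` are centralised by `F`
  have hsuppF : ∀ x ∈ ZL (S : Subgroup G) n, (∀ i, x ∈ C i ↔ i ∉ r) → ∀ f ∈ F, f * x = x * f := by
    intro x hx hxs f hf
    refine mem_centralizer_iff.1 (hp.fix ⟨hx, mem_centralizer_iff.2 fun o ho => ?_⟩) f hf
    refine comm_of_supp h (hON ho) hx fun i j e => ?_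
    rw [hxs i, hxs j, hrO o ho i j e]
  obtain ⟨xr, hxr, hxrs⟩ := SwapL.exists_supp h r
  -- `T` stabilises `r`
  have hrT : ∀ t ∈ T, ∀ i j, cj t (Z i) = Z j → i ∈ r → j ∈ r := by
    intro t ht i j e hi
    by_contra hj
    have h1 := (SwapL.supp_cj h (hTN ht) e hxr).1
    have h2 := hsuppF xr hxr hxrs t (hTF ht)
    have h3 : t * xr * t⁻¹ = xr := by rw [h2]; group
    rw [h3] at h1
    exact (hxrs i).1 (h1 ((hxrs j).2 hj)) hi
  -- `z i ∉ C₀`
  have hnC : ∀ i ∈ r, z i ∉ C₀ := by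
    rintro i ⟨o, ho, e⟩ hi
    have hgO : o * o₀ * o⁻¹ ∈ o2 F := mul_mem (mul_mem ho ho₀) (inv_mem ho)
    have h1 : o * o₀ * o⁻¹ * z i = z i * (o * o₀ * o⁻¹) :=
      (mem_centralizer_iff.1 (hFC (o2_le F hgO)) (z i) hi).symm
    obtain ⟨k, hk, -, -⟩ := SwapL.perm h (hON hgO) i
    have h2 := SwapL.conj_gen h hk (hz i) (hz1 i) (hz k) (hz1 k)
    have h3 : o * o₀ * o⁻¹ * z i * (o * o₀ * o⁻¹)⁻¹ = z i := by rw [h1]; group
    have h4 : i = k := by
      by_contra hne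
      refine hz1 i (SwapL.Z_inf h.fr hne (hz i) ?_)
      have h5 : z i = z k := h3.symm.trans h2
      rw [h5]
      exact hz k
    apply hmv
    rw [← h4] at hk
    have h5 : cj o⁻¹ (cj (o * o₀ * o⁻¹) (cj o (Z i₀))) = cj o⁻¹ (cj o (Z i₀)) := by rw [e, hk]
    rw [cj_cj, cj_cj, cj_inv_cj] at h5
    have e2 : o⁻¹ * (o * o₀ * o⁻¹ * o) = o₀ := by group
    have e3 : o⁻¹ * (o * o₀ * o⁻¹) * o = o₀ := by group
    first
      | rwa [e2] at h5
      | rwa [e3] at h5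
  -- `T` normalises `U = ∏_{j ∈ r} W j`
  have hUT : ∀ t ∈ T, ∀ x ∈ (⨆ j ∈ r, W j), t * x * t⁻¹ ∈ (⨆ j ∈ r, W j) := by
    intro t ht x hx
    have h1 : (⨆ j ∈ r, W j) ≤ (⨆ j ∈ r, W j).comap (MulAut.conj t).toMonoidHom := by
      refine iSup₂_le fun j hj w hw => ?_
      show t * w * t⁻¹ ∈ ⨆ j ∈ r, W j
      obtain ⟨k, hk, hkW, -⟩ := SwapL.perm h (hTN ht) j
      have h2 : t * w * t⁻¹ ∈ W k := by
        rw [← hkW]
        exact ⟨w, hw, rfl⟩
      exact (le_iSup₂_of_le (f := fun j (_ : j ∈ r) => W j) k (hrT t ht j k hk hj) le_rfl) h2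
    exact h1 hx
  -- transvections in `O₂(F)`
  have htv : ∀ i ∈ r, ∃ u ∈ o2 F, ∀ x ∈ W i, x ∉ Z i → u * x * u⁻¹ = x * z i := by
    intro i hi
    obtain ⟨i', hi', hne⟩ : ∃ i' ∈ r, i ≠ i' := by
      by_cases h1 : i = i₀
      · exact ⟨j₀, hj₀r, h1 ▸ hne₀⟩
      · exact ⟨i₀, hi₀, h1⟩
    obtain ⟨s, hs, e⟩ := htr i' hi' i hi
    exact exists_tv h hp.syl hp.BT hne hs e (hz i) (hz1 i)
  -- (TI)
  have hti : ∀ i ∈ r, ∀ x ∈ W i, x ≠ 1 → ∀ f ∈ F, x ∈ cj f (⨆ j ∈ r, W j) →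
      f ∈ normalizer (ZL (S : Subgroup G) n : Set G) := by
    intro i hi x hx hx1 f hf hxf
    rw [mem_cj] at hxf
    have hfO : ∀ o ∈ o2 F, f * o * f⁻¹ ∈ o2 F := fun o ho =>
      (mem_normalizer_iff.1 (le_normalizer_o2 F hf) o).1 ho
    have hfO' : ∀ o ∈ o2 F, f⁻¹ * o * f ∈ o2 F := fun o ho => by
      have h1 := (mem_normalizer_iff.1 (le_normalizer_o2 F (inv_mem hf)) o).1 ho
      rwa [inv_inv] at h1
    -- `z_i ∈ U^f`
    have hzi : f⁻¹ * z i * f ∈ (⨆ j ∈ r, W j) := by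
      by_cases hxZ : x ∈ Z i
      · have e := SwapL.Z_eq h hxZ (hz i) hx1 (hz1 i)
        rwa [← e]
      · obtain ⟨u, hu, hux⟩ := htv i hi
        have h1 := hux x hx hxZ
        have h2 := hUT (f⁻¹ * u * f) (hO (hfO' u hu)) _ hxf
        have h3 := mul_mem (inv_mem hxf) h2
        have e : (f⁻¹ * x * f)⁻¹ * (f⁻¹ * u * f * (f⁻¹ * x * f) * (f⁻¹ * u * f)⁻¹) =
            f⁻¹ * (x⁻¹ * (u * x * u⁻¹)) * f := by group
        rw [e, h1] at h3
        have e2 : f⁻¹ * (x⁻¹ * (x * z i)) * f = f⁻¹ * z i * f := by group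
        rwa [e2] at h3
    have hne : f⁻¹ * z i * f ≠ 1 := by
      intro h1
      apply hz1 i
      have e : z i = f * (f⁻¹ * z i * f) * f⁻¹ := by group
      rw [e, h1]; group
    obtain ⟨j, hj, hwj⟩ := wt h hb hzi hne (g := f⁻¹) (a := i) (by
      have e : f⁻¹⁻¹ * (f⁻¹ * z i * f) * f⁻¹ = z i := by group
      rw [e]; exact hz i)
    by_cases hwZ : f⁻¹ * z i * f ∈ Z j
    · exact m.mem h (hFC hf) (h.fr.Z_le i (hz i)) (hnC i hi) (h.fr.Z_le j hwZ)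
    exfalso
    obtain ⟨u, hu, huw⟩ := htv j hj
    have h1 := huw _ hwj hwZ
    have hv := hfO u hu
    obtain ⟨k, hk, -, -⟩ := SwapL.perm h (hON hv) i
    have h2 := SwapL.conj_gen h hk (hz i) (hz1 i) (hz k) (hz1 k)
    have h3 : z k = z i * (f * z j * f⁻¹) := by
      have e : f * u * f⁻¹ * z i * (f * u * f⁻¹)⁻¹ = f * (u * (f⁻¹ * z i * f) * u⁻¹) * f⁻¹ := by group
      rw [e, h1] at h2
      rw [← h2]; group
    have hik : i ≠ k := by
      rintro rfl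
      apply hz1 j
      have h4 : f * z j * f⁻¹ = 1 := by
        have := congrArg (fun t => (z i)⁻¹ * t) h3
        simpa using this.symm
      exact conj_eq_one_iff.1 h4
    have h5 : (z i)⁻¹ * z k ∈ ZL (S : Subgroup G) n :=
      mul_mem (inv_mem (h.fr.Z_le i (hz i))) (h.fr.Z_le k (hz k))
    have h6 : f⁻¹ * ((z i)⁻¹ * z k) * f ∈ Z j := by
      have e : f⁻¹ * ((z i)⁻¹ * z k) * f = z j := by rw [h3]; group
      rw [e]; exact hz j
    obtain ⟨l, hl'⟩ := hb.fus h5 h6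
    by_cases hli : l = i
    · subst hli
      have h7 : z k ∈ Z l := by
        have := mul_mem (hz l) hl'
        rwa [mul_inv_cancel_left] at this
      exact hz1 k (SwapL.Z_inf h.fr hik.symm (hz k) h7)
    · have h7 : (z i)⁻¹ * z k ∈ C i := SwapL.Z_C h (fun e => hli e.symm) hl'
      have h8 : z k ∈ C i := SwapL.Z_C h hik (hz k)
      have h9 : (z i)⁻¹ ∈ C i := (Subgroup.mul_mem_cancel_right _ h8).1 h7
      exact SwapL.not_mem_C h (hz i) (hz1 i) (by simpa using inv_mem h9)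
  have hsup : (⨆ j : r, W j) = ⨆ j ∈ r, W j := iSup_subtype' (f := fun j (_ : j ∈ r) => W j) |>.symm
  have hWV : ∀ i, W i ≤ zl (S : Subgroup G) P := h.fr.WV
  have hcomm : ∀ f ∈ F, ∀ x ∈ zl (S : Subgroup G) P, ∀ y ∈ zl (S : Subgroup G) P,
      x * (f * y * f⁻¹) = f * y * f⁻¹ * x := fun f hf x hx y hy => comm_of_pair h hp hf hx hy
  -- `Λ = ⟨V^F⟩` is elementary abelian
  have hVel : IsElementaryAbelian 2 (NoFF.Basic.V (zl (S : Subgroup G) P) F) := by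
    have h1 := Swap.elab_iSup (W := fun f : F => cj (f : G) (zl (S : Subgroup G) P)) (fun f f' x hx y hy => ?_)
      fun f x hx => ?_
    · exact Swap.elab_of h1.1 h1.2
    · rw [mem_cj] at hx hy
      have h2 := hcomm ((f : G)⁻¹ * f') (mul_mem (inv_mem f.2) f'.2) _ hx _ hy
      have e1 : (f : G)⁻¹ * f' * ((f' : G)⁻¹ * y * f') * ((f : G)⁻¹ * f')⁻¹ = (f : G)⁻¹ * y * f := by group
      rw [e1] at h2
      have h3 := congrArg (fun t => (f : G) * t * (f : G)⁻¹) h2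
      have e2 : (f : G) * ((f : G)⁻¹ * x * f * ((f : G)⁻¹ * y * f)) * (f : G)⁻¹ = x * y := by group
      have e3 : (f : G) * ((f : G)⁻¹ * y * f * ((f : G)⁻¹ * x * f)) * (f : G)⁻¹ = y * x := by group
      exact e2.symm.trans (h3.trans e3)
    · rw [mem_cj] at hx
      have h2 := SQ1.Bau.elem_sq h.fr.el _ hx
      rw [pow_two] at h2
      have e : x * x = f * ((f : G)⁻¹ * x * f * ((f : G)⁻¹ * x * f)) * (f : G)⁻¹ := by group
      rw [e, h2]; group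
  have hUV : (⨆ j : r, W j) ≤ zl (S : Subgroup G) P := iSup_le fun j => hWV j
  have hLV : NoFF.Basic.V (⨆ j : r, W j) F ≤ NoFF.Basic.V (zl (S : Subgroup G) P) F :=
    NoFF.Basic.V_le fun f hf => (cj_mono f hUV).trans (NoFF.Basic.Z_le_V hf)
  have hUF : (⨆ j : r, W j) ≤ F := hUV.trans (hp.VO.trans (o2_le F))
  refine ⟨T, F, F ⊓ normalizer (ZL (S : Subgroup G) n : Set G), 𝓐, r, fun i => W i, fun i => z i, ?_⟩
  refine
    { syl := hp.syl
      TF₀ := le_inf hTF hTM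
      F₀F := lt_of_le_of_ne inf_le_left fun e => hp.nM (inf_eq_left.1 e)
      max := fun K hTK hKF => le_inf hKF.le (hp.min K hTK hKF)
      fam := hfam _ (Swap.elab_mono hVel hLV) ?_ OmThm.XD.X_le_normalizer_W hLV
      nJ := hnJ
      fin := inferInstance
      two := ⟨⟨i₀, hi₀⟩, ⟨j₀, hj₀r⟩, fun e => hne₀ (congrArg Subtype.val e)⟩
      card := fun i => by rw [(h.fr.blk i).card, h.fr.cardZ]
      zV := fun i => SwapL.Z_W h _ (hz i)
      z1 := fun i => hz1 i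
      VO := fun i => (hWV i).trans hp.VO
      sq := fun i x hx => by
        rw [← pow_two]
        exact SQ1.Bau.elem_sq h.fr.el x (hWV i hx)
      comm := fun f hf i j x hx y hy => comm_of_pair h hp hf (hWV i hx) (hWV j hy)
      ind := ?_
      perm := ?_
      tr := ?_
      nor := ?_
      hat := ?_
      mov := ?_
      zc := ?_
      ti := ?_ }
  · refine NoFF.Basic.V_le fun f hf => ?_
    have := cj_mono f hUF
    rwa [cj_eq_of_mem_normalizer (le_normalizer hf)] at this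
  · rintro ⟨i, hi⟩ x hx hx'
    have h1 : (⨆ j : r, ⨆ _ : j ≠ ⟨i, hi⟩, W j) ≤ C i := by
      refine iSup_le fun j => iSup_le fun hj => ?_
      exact h.fr.WjC i j fun e => hj (Subtype.ext e.symm)
    have h2 : x ∈ W i ⊓ C i := mem_inf.2 ⟨hx, h1 hx'⟩
    rwa [h.fr.dir i, mem_bot] at h2
  · rintro t ht ⟨i, hi⟩
    obtain ⟨j, h1, h2, -⟩ := SwapL.perm h (hTN ht) i
    exact ⟨⟨j, hrT t ht i j h1 hi⟩, h2, SwapL.conj_gen h h1 (hz i) (hz1 i) (hz j) (hz1 j)⟩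
  · rintro ⟨i, hi⟩ ⟨j, hj⟩
    exact htr i hi j hj
  · rintro X hX hXT a ha ⟨i, hi⟩
    have hb := (hA X hX hXT).1 ha
    have key : ∀ b ∈ BL (S : Subgroup G) n, cj b (W i) ≤ W i := by
      rintro b hb _ ⟨w, hw, rfl⟩
      exact (h.fr.blk i).BV hb hw
    refine le_antisymm (key a hb) ?_
    have := cj_mono a (key a⁻¹ (inv_mem hb))
    rwa [cj_cj_inv] at this
  · rintro X hX hXT ⟨i, hi⟩ hmv'
    obtain ⟨hXB, h1 | hbest⟩ := hA X hX hXT
    · obtain ⟨a, ha, x, hx, hne⟩ := hmv'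
      exact absurd (h1 a ha x (hWV i hx)) hne
    · obtain ⟨a, ha, h1, h2⟩ := SwapL.hat h.fr hXB hbest hmv'
      exact ⟨a, ha, h1, fun j hj x hx => h2 j (fun e => hj (Subtype.ext e)) x hx⟩
  · rintro ⟨i, hi⟩
    have h2 := h.fr.Ane i
    push Not at h2
    obtain ⟨a, ha, v, hv, hne⟩ := h2
    refine ⟨a, hp.BT (h.fr.AB i ha), ⟨v, hv, hne⟩, fun j hj x hx => ?_⟩
    exact h.fr.AC i a ha x (h.fr.WjC i j (fun e => hj (Subtype.ext e.symm)) hx)
  · rintro ⟨i, hi⟩ ⟨j, hj⟩ hij hall f hf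
    have hij' : i ≠ j := fun e => hij (Subtype.ext e)
    have hall' : ∀ k ∈ r, k = i ∨ k = j := by
      intro k hk
      rcases hall ⟨k, hk⟩ with e | e
      · exact Or.inl (congrArg Subtype.val e)
      · exact Or.inr (congrArg Subtype.val e)
    refine hsuppF (z i * z j) (mul_mem (h.fr.Z_le i (hz i)) (h.fr.Z_le j (hz j))) (fun k => ?_) f hf
    by_cases hki : k = i
    · subst hki
      rw [Subgroup.mul_mem_cancel_right _ (SwapL.Z_C h hij' (hz j))]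
      exact ⟨fun h1 => absurd h1 (SwapL.not_mem_C h (hz k) (hz1 k)), fun h1 => absurd hi h1⟩
    · by_cases hkj : k = j
      · subst hkj
        rw [Subgroup.mul_mem_cancel_left _ (SwapL.Z_C h hki (hz i))]
        exact ⟨fun h1 => absurd h1 (SwapL.not_mem_C h (hz k) (hz1 k)), fun h1 => absurd hj h1⟩
      · refine ⟨fun _ hk => ?_, fun _ => mul_mem (SwapL.Z_C h hki (hz i)) (SwapL.Z_C h hkj (hz j))⟩
        rcases hall' k hk with e | e
        · exact hki e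
        · exact hkj e
  · rintro ⟨i, hi⟩ x hx hx1 f hf hxf
    rw [hsup] at hxf
    exact mem_inf.2 ⟨hf, hti i hi x hx hx1 f hf hxf⟩

/-- **THEOREM Y2** (stage `n ≥ 0`): `C_G(Ω₁(Z(T))) ≤ N_G(Z_J)` for every 2-group `T ≥ B`. -/
theorem cent_zc_le (hs : SitFFalse.{u}) (h : Ln S P n L W Z C A 2)
    (hb : Bg S P (BL (S : Subgroup G) n) (ZL (S : Subgroup G) n) L W Z C 2)
    {T : Subgroup G} (hT : IsPGroup 2 T) (hB : BL (S : Subgroup G) n ≤ T) :
    centralizer (zc T : Set G) ≤ normalizer (ZL (S : Subgroup G) n : Set G) := by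
  by_contra hcon
  rcases isEmpty_or_nonempty ι with hι | hι
  · have h1 : ZL (S : Subgroup G) n = ⊥ := by
      rw [eq_bot_iff]
      intro x hx
      exact mem_bot.2 (h.fr.C0 x (h.fr.ZJV hx) fun i => hι.elim i)
    apply hcon
    rw [h1, normalizer_eq_top]
    exact le_top
  obtain ⟨C₀, T₀, m⟩ := exists_maxC S ⟨hcon, T, hT, hB, rfl⟩
  obtain ⟨T, F, F₀, 𝓐, κ, V, z, hS⟩ := exists_sit h hb m
  exact hs G F T F₀ 𝓐 κ V z hS

end bg

end Cfsg.Agent.Omega.OM.YTwo.Lv
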