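import Cfsg.Agent.Omega.OM.YTwo.Sit
import Cfsg.Agent.Omega.OM.YTwo.SitL
import Cfsg.Agent.Omega.OM.SwapL.Main

/-!
# THEOREM Y2 (helper743 #22591), every stage, in the form of the tree (`Node/MultiOf.lean`)

`q = 2`, `k ≥ 2` natural modules, `T ≥ B` a 2-group: **`C_G(Ω₁(Z(T))) ≤ N_G(Z_J)`**.
-/

set_option autoImplicit false

namespace Cfsg.Agent.Omega.OM.YTwo

open Subgroup Cfsg Cfsg.Agent.ZN.ChoiceBase Cfsg.Agent.ZN.ChoiceSit
open Cfsg.Agent.ZN (jj zj bau zc zl o2)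
open Cfsg.Agent.Omega.Node.MultiOf (Mul StgP)
open Cfsg.Agent.Omega.OM.SwapL (BL ZL Ln)

universe u

variable {G : Type u} [Group G] [Finite G]

/-- **THEOREM Y2**, every stage. -/
theorem of_mul {S : Sylow 2 G} {P K B ZJ : Subgroup G} {k : ℕ} (hk : 2 ≤ k) {L W Z C : Fin k → Subgroup G}
    (h : Mul S P K B ZJ L W Z C 2) {T : Subgroup G} (hT : IsPGroup 2 T) (hB : B ≤ T) :
    centralizer (zc T : Set G) ≤ normalizer (ZJ : Set G) := by
  obtain ⟨F, _, _, _, hF, ⟨N⟩⟩ := h.nat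
  cases h.stg with
  | neg hj => exact cent_zc_le_of_nat ⟨h.hyp.toHypN, hj⟩ FF.Glob.ffthm FF.Glob.aStmt hF hk N.toNatK hT hB
  | lev n hall hn hn1 =>
    obtain ⟨M, L', Z', A, -, hFr, hBg, -⟩ := Lev.Main.bg_lev h.hyp.toHypN hn hn1 hk N
      (B := BL (S : Subgroup G) n) rfl
    rw [hF] at hFr hBg
    have hln : Ln S P n L' _ Z' _ A 2 := ⟨h.hyp.toHypN, hn, hFr, hBg.two⟩
    exact Lv.cent_zc_le SwapL.sitFFalse hln hBg hT hB

end Cfsg.Agent.Omega.OM.YTwo
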