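import Cfsg.Agent.Omega.OM.Swap.Facts
import Cfsg.Agent.Omega.OM.Swap.Plug
import Cfsg.Agent.Omega.NO3S.EMany.FourD

/-!
# THEOREM Y2 (helper743 #19822), stage `-1`, `q = 2`, natural modules, any number of factors

`B = bau S`, `Z_J = zj S`. Every 2-group `T ≥ B` satisfies `C_G(Ω₁(Z(T))) ≤ N_G(Z_J)`.  The proof uses the abstract
THEOREM SW (`Swap.SitFalse`, helper394, helper100, helper590): a counterexample with `C₀ = Ω₁(Z(T))` maximal gives
`Swap.Sit`.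

* `Bad`, `exists_bad_max`, `MaxC` : the choice of `C₀`; `MaxC.cent` : `C₀ < X ≤ Z_J → C_G(X) ≤ N_G(Z_J)`;
  `MaxC.mem` : (b);
* `exists_pair_of` : the pair `(T, F)`;
* `MaxC.exists_sit`, `cent_zc_le`.
-/

set_option autoImplicit false
set_option linter.unusedSectionVars false

namespace Cfsg.Agent.Omega.OM.YTwo

open Subgroup Cfsg Cfsg.Agent.ZN.ChoiceBase Cfsg.Agent.ZN.ChoiceSit
open Cfsg.Agent.ZN (jj zj bau zc zl o2)
open Cfsg.Agent.MinSimple.MinParabolic (IsMinPar)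
open Cfsg.Agent.MinSimple.VModule (oddGen oddGen_le)
open Cfsg.Agent.Omega.OM.Swap
open Cfsg.Agent.Omega.NO3S.EThree.Frame (Bs)

universe u

variable {G : Type u} [Group G] [Finite G]

/-! ### General facts -/

theorem S_le (S : Sylow 2 G) : (S : Subgroup G) ≤ normalizer (zj (S : Subgroup G) : Set G) :=
  (Line.S_le S).trans (Dich.norm_zj _)

theorem norm_jj_zj (S : Sylow 2 G) :
    normalizer (jj (S : Subgroup G) : Set G) ≤ normalizer (zj (S : Subgroup G) : Set G) :=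
  norm_jj_le S (centralizer_le_normalizer _) (Dich.norm_zj _)

theorem mem_of_cj (S : Sylow 2 G) {g : G} (h : cj g (bau (S : Subgroup G)) ≤ normalizer (zj (S : Subgroup G) : Set G)) :
    g ∈ normalizer (zj (S : Subgroup G) : Set G) :=
  mem_of_cj_bau_le S (S_le S) (Dich.norm_zj _) h

theorem zc_le_zj' (S : Sylow 2 G) {T : Subgroup G} (hT : IsPGroup 2 T) (hB : bau (S : Subgroup G) ≤ T) :
    zc T ≤ zj (S : Subgroup G) := by
  rw [← LemmaK.Main.zj_eq S hT hB]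
  exact zc_le_zj T

/-- A minimal parabolic over `T` not contained in `N_G(Z_J)`. -/
theorem exists_par (S : Sylow 2 G) {T H : Subgroup G} (hT : Syl T H) (hB : bau (S : Subgroup G) ≤ T)
    (hM : ¬ H ≤ normalizer (zj (S : Subgroup G) : Set G)) :
    ∃ Y : Subgroup G, IsMinPar T Y ∧ Y ≤ H ∧ ¬ Y ≤ normalizer (zj (S : Subgroup G) : Set G) ∧ ¬ jj T ≤ o2 Y := by
  have hbau : bau T = bau (S : Subgroup G) := LemmaK.Main.bau_eq S hT.2.1 hB
  have hjj : jj T = jj (S : Subgroup G) := LemmaK.Main.jj_eq S hT.2.1 hB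
  obtain ⟨Y, hY, hYH, hYM⟩ : ∃ Y : Subgroup G, IsMinPar T Y ∧ Y ≤ H ∧
      ¬ Y ≤ normalizer (zj (S : Subgroup G) : Set G) := by
    by_contra hcon
    push Not at hcon
    apply hM
    refine MinSimple.MinParabolic.le_of_forall hT.1 ?_ hcon
    refine inf_le_right.trans (le_trans ?_ (Dich.norm_zj _))
    rw [← hbau]
    exact normalizer_le_bau T
  refine ⟨Y, hY, hYH, hYM, fun h1 => hYM ?_⟩
  have hTY : Syl T Y := ⟨hY.le, hT.2.1, fun Q hQ h2 hTQ => hT.2.2 Q (hQ.trans hYH) h2 hTQ⟩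
  have h3 : jj (o2 Y) = jj T := jj_eq_of_jj_le h1 (o2_le_syl hTY)
  have h4 : Y ≤ normalizer (jj (S : Subgroup G) : Set G) := by
    rw [← hjj, ← h3]
    exact (MinSimple.VModule.le_normalizer_o2 Y).trans (normalizer_le_jj _)
  exact h4.trans (norm_jj_zj S)

/-- The second half of `Swap.exists_pair`: the pair `(T, F)` inside a minimal parabolic `Y` with `[Ω₁(Z(T₀)), Y] = 1`,
`J(T₀) ≰ O₂(Y)`, `Y ≰ M`. -/
theorem exists_pair_of {ι : Type} [Finite ι] {S : Sylow 2 G} {P : Subgroup G} {L W Z C A : ι → Subgroup G} {q : ℕ}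
    (h : Line S P L W Z C A q) (hA : FFBr.AStmt.{u}) {M H T₀ Y : Subgroup G}
    (hD : centralizer (zj (S : Subgroup G) : Set G) ≤ M) (hN : normalizer (bau (S : Subgroup G) : Set G) ≤ M)
    (hT₀ : Syl T₀ H) (hBT₀ : bau (S : Subgroup G) ≤ T₀) (hc : H ⊓ centralizer (o2 H : Set G) ≤ o2 H)
    (hYm : IsMinPar T₀ Y) (hYH : Y ≤ H) (hYJ : ¬ jj T₀ ≤ o2 Y) (hYc : Y ≤ centralizer (zc T₀ : Set G))
    (hYM : ¬ Y ≤ M) :
    ∃ T F : Subgroup G, Pair S P M T F ∧ F ≤ Y := by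
  have : Fact (Nat.Prime 2) := ⟨Nat.prime_two⟩
  have hTM : T₀ ≤ M := (Dich.two_le S hT₀.2.1 hBT₀).trans hN
  have hTY : Syl T₀ Y := ⟨hYm.le, hT₀.2.1, fun Q hQ h2 hTQ => hT₀.2.2 Q (hQ.trans hYH) h2 hTQ⟩
  have hcY : Y ⊓ centralizer (o2 Y : Set G) ≤ o2 Y := by
    have h4 : o2 H ≤ o2 Y :=
      le_o2 (isPGroup_o2 H) ((o2_le_syl hT₀).trans hYm.le) (hYH.trans (MinSimple.VModule.le_normalizer_o2 H))
    rintro x ⟨hx, hxc⟩
    exact h4 (hc ⟨hYH hx, centralizer_le (by exact_mod_cast h4) hxc⟩)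
  have hVY : zl (S : Subgroup G) P ≤ o2 Y := V_le_o2 h hT₀.2.1 hBT₀ hYm.le hYc
  -- `Y₁ = O²(Y) O₂(Y) B`
  set Y₁ : Subgroup G := oddGen Y ⊔ (o2 Y ⊔ bau (S : Subgroup G)) with hY₁
  have hY₁Y : Y₁ ≤ Y := sup_le (oddGen_le Y) (sup_le (o2_le Y) (hBT₀.trans hYm.le))
  have hOB : IsPGroup 2 (o2 Y ⊔ bau (S : Subgroup G) : Subgroup G) :=
    hT₀.2.1.to_le (sup_le (o2_le_syl hTY) hBT₀)
  obtain ⟨T, hT, hOT⟩ := exists_syl hOB (le_sup_right : o2 Y ⊔ bau (S : Subgroup G) ≤ Y₁)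
  have hY₁M : ¬ Y₁ ≤ M := by
    intro hle
    apply hYM
    rw [← Dich.oddGen_sup_syl hTY]
    exact sup_le (le_sup_left.trans hle) hTM
  obtain ⟨F, hF⟩ := (Set.toFinite {K : Subgroup G | T ≤ K ∧ K ≤ Y₁ ∧ ¬ K ≤ M}).exists_minimal
    ⟨Y₁, hT.1, le_rfl, hY₁M⟩
  obtain ⟨hTF, hFY₁, hFM⟩ := hF.prop
  have hFY : F ≤ Y := hFY₁.trans hY₁Y
  have hsyl : Syl T F := ⟨hTF, hT.2.1, fun Q hQ h2 hle => hT.2.2 Q (hQ.trans hFY₁) h2 hle⟩
  have hBT : bau (S : Subgroup G) ≤ T := le_sup_right.trans hOT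
  have hOF : o2 Y ≤ o2 F :=
    le_o2 (isPGroup_o2 Y) ((le_sup_left.trans hOT).trans hTF) (hFY.trans (MinSimple.VModule.le_normalizer_o2 Y))
  refine ⟨T, F, ⟨hsyl, hBT, hFM, fun K hTK hKF => ?_, fun hJ => hFM ?_, hVY.trans hOF, ?_⟩, hFY⟩
  · by_contra hKM
    exact hKF.not_ge (hF.le_of_le ⟨hTK, hKF.le.trans hFY₁, hKM⟩ hKF.le)
  · have hjT : jj T = jj (S : Subgroup G) := LemmaK.Main.jj_eq S hT.2.1 hBT
    have h2 : jj (o2 F) = jj (S : Subgroup G) := by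
      rw [← hjT]
      exact jj_eq_of_jj_le (hjT ▸ hJ) (o2_le_syl hsyl)
    have h3 := (MinSimple.VModule.le_normalizer_o2 F).trans (normalizer_le_jj (o2 F))
    rw [h2] at h3
    exact h3.trans (norm_jj_le S hD hN)
  · rintro z ⟨hz, hzc⟩
    have hzB : z ∈ bau (S : Subgroup G) := zj_le_bau _ hz
    have hzO : ∀ y ∈ o2 Y, y * z = z * y := fun y hy => mem_centralizer_iff.1 hzc y (hOF hy)
    have hz1 : z ∈ zc (o2 Y) := by
      refine mem_zc.2 ⟨hcY ⟨hYm.le (hBT₀ hzB), mem_centralizer_iff.2 hzO⟩, (mem_zj.1 hz).2.1, hzO⟩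
    have hz2 : z ∈ centralizer (oddGen Y : Set G) := FixPt.fixPt hA hTY hYm hYJ hYc hz1
    have hle : Y₁ ≤ centralizer ({z} : Set G) := by
      refine sup_le (fun y hy => ?_) (sup_le (fun y hy => ?_) fun y hy => ?_) <;>
        rw [mem_centralizer_singleton_iff]
      · exact mem_centralizer_iff.1 hz2 y hy
      · exact hzO y hy
      · exact ((mem_bau.1 hy).2 z hz).symm
    rw [mem_centralizer_iff]
    intro y hy
    exact mem_centralizer_singleton_iff.1 (hle (hFY₁ hy))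

/-! ### The choice of `C₀` -/

/-- `X = Ω₁(Z(T))` for a 2-group `T ≥ B`, `C_G(X) ≰ N_G(Z_J)`. -/
def Bad (S : Sylow 2 G) (X : Subgroup G) : Prop :=
  ¬ centralizer (X : Set G) ≤ normalizer (zj (S : Subgroup G) : Set G) ∧
    ∃ T : Subgroup G, IsPGroup 2 T ∧ bau (S : Subgroup G) ≤ T ∧ X = zc T

/-- `C₀ = Ω₁(Z(T₀))` maximal bad, `T₀` a Sylow 2-subgroup of `C_G(C₀)`. -/
structure MaxC (S : Sylow 2 G) (C₀ T₀ : Subgroup G) : Prop where
  not : ¬ centralizer (C₀ : Set G) ≤ normalizer (zj (S : Subgroup G) : Set G)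
  syl : Syl T₀ (centralizer (C₀ : Set G))
  BT : bau (S : Subgroup G) ≤ T₀
  eq : C₀ = zc T₀
  max : ∀ X, Bad S X → C₀ ≤ X → X ≤ C₀

theorem MaxC.le {S : Sylow 2 G} {C₀ T₀ : Subgroup G} (m : MaxC S C₀ T₀) : C₀ ≤ zj (S : Subgroup G) :=
  m.eq.le.trans (zc_le_zj' S m.syl.2.1 m.BT)

theorem exists_maxC (S : Sylow 2 G) {X : Subgroup G} (hX : Bad S X) : ∃ C₀ T₀ : Subgroup G, MaxC S C₀ T₀ := by
  obtain ⟨C₀, hC⟩ := (Set.toFinite {X : Subgroup G | Bad S X}).exists_maximal ⟨X, hX⟩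
  obtain ⟨hn, T, hT, hBT, e⟩ := hC.prop
  have hTc : T ≤ centralizer (C₀ : Set G) := by
    rw [e]
    exact MinSimple.VModule.le_centralizer_zc T
  obtain ⟨T₀, hT₀, hTT₀⟩ := exists_syl hT hTc
  refine ⟨C₀, T₀, hn, hT₀, hBT.trans hTT₀, le_antisymm ?_ ?_, fun X hX hle => hC.le_of_ge hX hle⟩
  · intro z hz
    have h1 : z ∈ zc T := e ▸ hz
    obtain ⟨h2, h3, -⟩ := mem_zc.1 h1
    exact mem_zc.2 ⟨hTT₀ h2, h3, fun t ht => (mem_centralizer_iff.1 (hT₀.1 ht) z hz).symm⟩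
  · intro z hz
    rw [e]
    have h1 : z ∈ zj (S : Subgroup G) := zc_le_zj' S hT₀.2.1 (hBT.trans hTT₀) hz
    obtain ⟨-, h3, h4⟩ := mem_zc.1 hz
    exact mem_zc.2 ⟨hBT (zj_le_bau _ h1), h3, fun t ht => h4 t (hTT₀ ht)⟩

section line

variable {ι : Type} [Finite ι] {S : Sylow 2 G} {P : Subgroup G} {L W Z C A : ι → Subgroup G}

/-- the element with full support -/
theorem MaxC.full (h : Line S P L W Z C A 2) {C₀ T₀ : Subgroup G} (m : MaxC S C₀ T₀) :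
    ∃ η ∈ C₀, ∀ i, η ∉ C i := by
  obtain ⟨η, hη, hs⟩ := exists_supp h Set.univ
  have hs' : ∀ i, η ∉ C i := fun i hi => (hs i).1 hi (Set.mem_univ i)
  refine ⟨η, ?_, hs'⟩
  rw [m.eq]
  refine mem_zc.2 ⟨m.BT (zj_le_bau _ hη), (mem_zj.1 hη).2.1, fun t ht => ?_⟩
  exact comm_of_supp h (Dich.two_le S m.syl.2.1 m.BT ht) hη fun i j _ =>
    ⟨fun hi => absurd hi (hs' i), fun hj => absurd hj (hs' j)⟩

/-- (MAX) -/
theorem MaxC.cent (h : Line S P L W Z C A 2) (hFF : FFThm.Stmt.{u}) {C₀ T₀ : Subgroup G} (m : MaxC S C₀ T₀)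
    [Nonempty ι] {X : Subgroup G} (hX : X ≤ zj (S : Subgroup G)) (hCX : C₀ ≤ X) (hne : ¬ X ≤ C₀) :
    centralizer (X : Set G) ≤ normalizer (zj (S : Subgroup G) : Set G) := by
  by_contra hcon
  obtain ⟨η, hη, hηC⟩ := m.full h
  have hη1 : η ≠ 1 := by
    rintro rfl
    exact hηC (Classical.arbitrary ι) (one_mem _)
  have hX1 : X ≠ ⊥ := by
    rintro rfl
    exact hη1 (mem_bot.1 (hCX hη))
  have h4 : Nat.card (zj (S : Subgroup G)) ≠ 4 := by
    intro h4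
    apply hcon
    have h1 : 1 < Nat.card C₀ := by
      have : Nontrivial C₀ := ⟨⟨⟨η, hη⟩, 1, fun e => hη1 (congrArg Subtype.val e)⟩⟩
      exact Finite.one_lt_card
    have h2 : Nat.card C₀ < Nat.card X := by
      refine lt_of_le_of_ne (Subgroup.card_le_of_le hCX) fun e => hne ?_
      exact (Subgroup.eq_of_le_of_card_ge hCX e.ge).ge
    have h3 : Nat.card X ∣ 4 := h4 ▸ Subgroup.card_dvd_of_le hX
    have h5 : Nat.card X = 4 := by
      have h6 : Nat.card X ≤ 4 := Nat.le_of_dvd (by norm_num) h3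
      interval_cases hc : Nat.card X <;> omega
    have h6 : X = zj (S : Subgroup G) := Subgroup.eq_of_le_of_card_ge hX (by rw [h4, h5])
    rw [h6]
    exact centralizer_le_normalizer _
  have hS2 : IsPGroup 2 (zj (S : Subgroup G)) := S.isPGroup'.to_le ((zj_le_bau _).trans (bau_le _))
  have hBX : bau (S : Subgroup G) ≤ centralizer (X : Set G) :=
    (Dich.bau_le_cent _).trans (centralizer_le (by exact_mod_cast hX))
  have hc := char2_cent h.hyp.ctx.char2 (hS2.to_le hX) hX1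
  obtain ⟨T₁, hT₁, hBT₁⟩ := exists_syl (S.isPGroup'.to_le (bau_le _)) hBX
  obtain ⟨Y, hY, hYH, hYM, hYJ⟩ := exists_par S hT₁ hBT₁ hcon
  by_cases hYc : Y ≤ centralizer (zc T₁ : Set G)
  · -- a larger bad group
    have hXz : X ≤ zc T₁ := by
      intro z hz
      exact mem_zc.2 ⟨hBT₁ (zj_le_bau _ (hX hz)), (mem_zj.1 (hX hz)).2.1, fun t ht =>
        (mem_centralizer_iff.1 (hT₁.1 ht) z hz).symm⟩
    have h1 : Bad S (zc T₁) := ⟨fun hle => hYM (hYc.trans hle), T₁, hT₁.2.1, hBT₁, rfl⟩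
    exact hne (hXz.trans (m.max _ h1 (hCX.trans hXz)))
  · have hTY : Syl T₁ Y := ⟨hY.le, hT₁.2.1, fun Q hQ h2 hTQ => hT₁.2.2 Q (hQ.trans hYH) h2 hTQ⟩
    have hcY : Y ⊓ centralizer (o2 Y : Set G) ≤ o2 Y := by
      have h4 : o2 (centralizer (X : Set G)) ≤ o2 Y :=
        le_o2 (isPGroup_o2 _) ((o2_le_syl hT₁).trans hY.le) (hYH.trans (MinSimple.VModule.le_normalizer_o2 _))
      rintro x ⟨hx, hxc⟩
      exact h4 (hc ⟨hYH hx, centralizer_le (by exact_mod_cast h4) hxc⟩)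
    obtain ⟨L', V', Z', q', hF, hLY, -⟩ :=
      NO3S.EMany.FourD.exists_fb hFF S hTY hBT₁ hY hcY hYJ hYc
    obtain ⟨-, i, -, -, h1 | ⟨-, h1, -⟩⟩ := h.uniPlus hF
    · refine hηC i ((h1.2.1 η (hX (hCX hη))).2 fun l hl => ?_)
      exact (mem_centralizer_iff.1 (hYH (hLY hl)) η (hCX hη)).symm
    · exact h4 h1

/-- **(b)** -/
theorem MaxC.mem (h : Line S P L W Z C A 2) (hFF : FFThm.Stmt.{u}) {C₀ T₀ : Subgroup G} (m : MaxC S C₀ T₀)
    [Nonempty ι] {f x : G} (hf : f ∈ centralizer (C₀ : Set G)) (hx : x ∈ zj (S : Subgroup G))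
    (hx0 : x ∉ C₀) (hfx : f⁻¹ * x * f ∈ zj (S : Subgroup G)) :
    f ∈ normalizer (zj (S : Subgroup G) : Set G) := by
  set X : Subgroup G := zj (S : Subgroup G) ⊓ cj f (zj (S : Subgroup G)) with hX
  have hCX : C₀ ≤ X := by
    refine le_inf m.le fun c hc => ?_
    rw [mem_cj]
    have h1 := mem_centralizer_iff.1 hf c hc
    have e : f⁻¹ * c * f = c := by rw [mul_assoc, h1]; group
    rw [e]
    exact m.le hc
  have h1 := m.cent h hFF (X := X) inf_le_left hCX fun hle => hx0 (hle (mem_inf.2 ⟨hx, mem_cj.2 hfx⟩))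
  apply mem_of_cj S
  refine le_trans ?_ h1
  have h2 : cj f (bau (S : Subgroup G)) ≤ centralizer ((cj f (zj (S : Subgroup G)) : Subgroup G) : Set G) := by
    rw [← cj_centralizer]
    exact cj_mono f (Dich.bau_le_cent _)
  exact h2.trans (centralizer_le (by exact_mod_cast (inf_le_right : X ≤ _)))

end line

end Cfsg.Agent.Omega.OM.YTwo
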